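import Mathlib
import Groth.Prelude.Def_SymTen
import Groth.Agent.Lib.Helper6.ZC.PwGen

/-!
# Symmetric products of `Proj`: the Segre subalgebra of a tensor power and its symmetric part (helper6)

`Cs 𝒜 d` is the subalgebra of the `d`-fold tensor power of a graded algebra `B` generated by the
pure tensors all of whose factors are homogeneous of one common degree; `Ds 𝒜 d` is its symmetric
part.  The symmetric group acts on `Cs` with invariants `Ds`, so `Cs` is integral over `Ds` and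
primes lift.  `Φ 𝔔 g` is the class of the pure tensor `g` modulo a prime `𝔔` of `Cs`.
The theorem `radical_core` reduces radical membership in `Ds` to a statement about such primes.
-/

set_option autoImplicit false
set_option linter.unusedSectionVars false
set_option linter.unusedVariables false
set_option linter.unusedSimpArgs false
set_option linter.style.haveILetI false
set_option linter.overlappingInstances false
set_option maxHeartbeats 800000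
set_option synthInstance.maxHeartbeats 400000

universe u
open scoped TensorProduct
open Groth.Agent.Lib.Helper6.ZC

noncomputable section

namespace Groth.Agent.Lib.Helper6.SymProj

variable {A B : Type u} [CommRing A] [CommRing B] [Algebra A B]
  (𝒜 : ℕ → Submodule A B) [GradedAlgebra 𝒜] (d : ℕ)

/-- the generating pure tensors -/
def Gen : Set (⨂[A] _ : Fin d, B) :=
  {t | ∃ (k : ℕ) (b : Fin d → B), (∀ i, b i ∈ 𝒜 k) ∧ t = PiTensorProduct.tprod A b}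

/-- the Segre subalgebra -/
def Cs : Subalgebra A (⨂[A] _ : Fin d, B) := Algebra.adjoin A (Gen 𝒜 d)

/-- pure tensors of multidegree `(k,…,k)` -/
def CkSet (k : ℕ) : Set (⨂[A] _ : Fin d, B) :=
  {s | ∃ b : Fin d → B, (∀ i, b i ∈ 𝒜 k) ∧ s = PiTensorProduct.tprod A b}

/-- the symmetric part of the Segre subalgebra -/
abbrev Ds : Subalgebra A (⨂[A] _ : Fin d, B) := Cs 𝒜 d ⊓ SymTen.TS A B d

variable {𝒜 d}

lemma tprod_mem_Cs {n : ℕ} {g : Fin d → B} (hg : ∀ i, g i ∈ 𝒜 n) :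
    PiTensorProduct.tprod A g ∈ Cs 𝒜 d :=
  Algebra.subset_adjoin ⟨n, g, hg, rfl⟩

lemma CkSet_subset_Cs (k : ℕ) : CkSet 𝒜 d k ⊆ (Cs 𝒜 d : Set (⨂[A] _ : Fin d, B)) := by
  rintro _ ⟨b, hb, rfl⟩
  exact tprod_mem_Cs hb

lemma span_CkSet_le (k : ℕ) {z : ⨂[A] _ : Fin d, B}
    (hz : z ∈ Submodule.span A (CkSet 𝒜 d k)) : z ∈ Cs 𝒜 d := by
  have h : Submodule.span A (CkSet 𝒜 d k) ≤ Subalgebra.toSubmodule (Cs 𝒜 d) :=
    Submodule.span_le.mpr (CkSet_subset_Cs k)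
  exact h hz

lemma perm_one (z : ⨂[A] _ : Fin d, B) : SymTen.perm A B d 1 z = z := by
  induction z using PiTensorProduct.induction_on with
  | smul_tprod r f =>
    simp only [map_smul, SymTen.perm_tprod]
    rfl
  | add x y hx hy => simp only [map_add, hx, hy]

lemma perm_mem_Cs (σ : Equiv.Perm (Fin d)) {x : ⨂[A] _ : Fin d, B} (hx : x ∈ Cs 𝒜 d) :
    SymTen.perm A B d σ x ∈ Cs 𝒜 d := by
  unfold Cs at hx ⊢
  induction hx using Algebra.adjoin_induction with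
  | mem x hx =>
    obtain ⟨n, g, hg, rfl⟩ := hx
    rw [SymTen.perm_tprod]
    exact Algebra.subset_adjoin ⟨n, _, fun i => hg _, rfl⟩
  | algebraMap a =>
    rw [AlgHom.commutes]
    exact Subalgebra.algebraMap_mem _ a
  | add x y _ _ hx hy =>
    rw [map_add]
    exact add_mem hx hy
  | mul x y _ _ hx hy =>
    rw [map_mul]
    exact mul_mem hx hy

/-- the permutation action on the Segre subalgebra -/
@[reducible] def permAction : MulSemiringAction (Equiv.Perm (Fin d)) ↥(Cs 𝒜 d) where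
  smul σ x := ⟨SymTen.perm A B d σ x.1, perm_mem_Cs σ x.2⟩
  one_smul x := Subtype.ext (perm_one x.1)
  mul_smul σ τ x := Subtype.ext (perm_perm A B d τ σ x.1).symm
  smul_zero σ := Subtype.ext (map_zero (SymTen.perm A B d σ))
  smul_add σ x y := Subtype.ext (map_add (SymTen.perm A B d σ) x.1 y.1)
  smul_one σ := Subtype.ext (map_one (SymTen.perm A B d σ))
  smul_mul σ x y := Subtype.ext (map_mul (SymTen.perm A B d σ) x.1 y.1)

/-- `Cs` as an algebra over its symmetric part -/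
@[reducible] def algDC : Algebra ↥(Ds 𝒜 d) ↥(Cs 𝒜 d) :=
  (Subalgebra.inclusion (inf_le_left : Ds 𝒜 d ≤ Cs 𝒜 d)).toRingHom.toAlgebra

attribute [local instance] permAction algDC

lemma algDC_apply (x : ↥(Ds 𝒜 d)) :
    ((algebraMap ↥(Ds 𝒜 d) ↥(Cs 𝒜 d) x : ↥(Cs 𝒜 d)) : ⨂[A] _ : Fin d, B) = x.1 := rfl

lemma permAction_apply (σ : Equiv.Perm (Fin d)) (x : ↥(Cs 𝒜 d)) :
    ((σ • x : ↥(Cs 𝒜 d)) : ⨂[A] _ : Fin d, B) = SymTen.perm A B d σ x.1 := rfl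

instance isInv : Algebra.IsInvariant ↥(Ds 𝒜 d) ↥(Cs 𝒜 d) (Equiv.Perm (Fin d)) where
  isInvariant x hx := by
    have hTS : x.1 ∈ SymTen.TS A B d := by
      rw [SymTen.mem_TS_iff]
      intro σ
      rw [← SymTen.perm_apply, ← permAction_apply, hx σ]
    exact ⟨⟨x.1, Algebra.mem_inf.mpr ⟨x.2, hTS⟩⟩, Subtype.ext rfl⟩

lemma algDC_injective : Function.Injective (algebraMap ↥(Ds 𝒜 d) ↥(Cs 𝒜 d)) := by
  intro x y h
  have h' := congrArg Subtype.val h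
  rw [algDC_apply, algDC_apply] at h'
  exact Subtype.ext h'

theorem exists_prime_over (𝔮 : Ideal ↥(Ds 𝒜 d)) [𝔮.IsPrime] :
    ∃ 𝔔 : Ideal ↥(Cs 𝒜 d), 𝔔.IsPrime ∧ 𝔔.comap (algebraMap ↥(Ds 𝒜 d) ↥(Cs 𝒜 d)) = 𝔮 := by
  haveI : Algebra.IsIntegral ↥(Ds 𝒜 d) ↥(Cs 𝒜 d) :=
    Algebra.IsInvariant.isIntegral ↥(Ds 𝒜 d) ↥(Cs 𝒜 d) (Equiv.Perm (Fin d))
  obtain ⟨Q, -, hQ, hQ'⟩ := Ideal.exists_ideal_over_prime_of_isIntegral 𝔮
    (⊥ : Ideal ↥(Cs 𝒜 d)) (by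
      intro x hx
      rw [Ideal.mem_comap, Ideal.mem_bot] at hx
      have : x = 0 := algDC_injective (hx.trans (map_zero _).symm)
      rw [this]
      exact zero_mem _)
  exact ⟨Q, hQ, hQ'⟩

open Classical in
/-- the class of a pure tensor modulo an ideal of the Segre subalgebra (zero if the tensor is not
in the subalgebra) -/
def Φ (𝔔 : Ideal ↥(Cs 𝒜 d)) (g : Fin d → B) : ↥(Cs 𝒜 d) ⧸ 𝔔 :=
  if h : PiTensorProduct.tprod A g ∈ Cs 𝒜 d then Ideal.Quotient.mk 𝔔 ⟨_, h⟩ else 0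

variable (𝔔 : Ideal ↥(Cs 𝒜 d))

lemma Φ_of_mem {g : Fin d → B} (h : PiTensorProduct.tprod A g ∈ Cs 𝒜 d) :
    Φ 𝔔 g = Ideal.Quotient.mk 𝔔 ⟨PiTensorProduct.tprod A g, h⟩ := dif_pos h

lemma Φ_eq_zero_iff {g : Fin d → B} (h : PiTensorProduct.tprod A g ∈ Cs 𝒜 d) :
    Φ 𝔔 g = 0 ↔ (⟨PiTensorProduct.tprod A g, h⟩ : ↥(Cs 𝒜 d)) ∈ 𝔔 := by
  rw [Φ_of_mem 𝔔 h, Ideal.Quotient.eq_zero_iff_mem]

lemma Φ_mul {g g' : Fin d → B} (hg : PiTensorProduct.tprod A g ∈ Cs 𝒜 d)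
    (hg' : PiTensorProduct.tprod A g' ∈ Cs 𝒜 d) : Φ 𝔔 (g * g') = Φ 𝔔 g * Φ 𝔔 g' := by
  have h : PiTensorProduct.tprod A (g * g') ∈ Cs 𝒜 d := by
    rw [← PiTensorProduct.tprod_mul_tprod]
    exact mul_mem hg hg'
  rw [Φ_of_mem 𝔔 h, Φ_of_mem 𝔔 hg, Φ_of_mem 𝔔 hg', ← map_mul]
  congr 1
  exact Subtype.ext (PiTensorProduct.tprod_mul_tprod g g').symm

lemma one_tprod_mem : PiTensorProduct.tprod A (1 : Fin d → B) ∈ Cs 𝒜 d :=
  tprod_mem_Cs (n := 0) (g := 1) (fun _ => SetLike.GradedOne.one_mem)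

lemma Φ_one : Φ 𝔔 (1 : Fin d → B) = 1 := by
  rw [Φ_of_mem 𝔔 one_tprod_mem, ← map_one (Ideal.Quotient.mk 𝔔)]
  congr 1

lemma tprod_pow_mem {g : Fin d → B} (hg : PiTensorProduct.tprod A g ∈ Cs 𝒜 d) (n : ℕ) :
    PiTensorProduct.tprod A (g ^ n) ∈ Cs 𝒜 d := by
  have : PiTensorProduct.tprod A (g ^ n) = (PiTensorProduct.tprod A g) ^ n :=
    map_pow (PiTensorProduct.tprodMonoidHom (ι := Fin d) (A := fun _ : Fin d => B) A) g n
  rw [this]
  exact pow_mem hg n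

lemma Φ_pow {g : Fin d → B} (hg : PiTensorProduct.tprod A g ∈ Cs 𝒜 d) (n : ℕ) :
    Φ 𝔔 (g ^ n) = Φ 𝔔 g ^ n := by
  induction n with
  | zero =>
    rw [pow_zero, pow_zero]
    exact Φ_one 𝔔
  | succ n ih => rw [pow_succ, Φ_mul 𝔔 (tprod_pow_mem hg n) hg, ih, pow_succ]

lemma tprod_prod_mem {ι' : Type*} (s : Finset ι') (g : ι' → Fin d → B)
    (hg : ∀ l ∈ s, PiTensorProduct.tprod A (g l) ∈ Cs 𝒜 d) :
    PiTensorProduct.tprod A (∏ l ∈ s, g l) ∈ Cs 𝒜 d := by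
  rw [PiTensorProduct.tprod_prod]
  exact prod_mem hg

lemma Φ_prod {ι' : Type*} (s : Finset ι') (g : ι' → Fin d → B)
    (hg : ∀ l ∈ s, PiTensorProduct.tprod A (g l) ∈ Cs 𝒜 d) :
    Φ 𝔔 (∏ l ∈ s, g l) = ∏ l ∈ s, Φ 𝔔 (g l) := by
  classical
  induction s using Finset.induction_on with
  | empty =>
    rw [Finset.prod_empty, Finset.prod_empty]
    exact Φ_one 𝔔
  | insert a s ha ih =>
    rw [Finset.prod_insert ha, Finset.prod_insert ha,
      Φ_mul 𝔔 (hg a (Finset.mem_insert_self a s))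
        (tprod_prod_mem s g fun l hl => hg l (Finset.mem_insert_of_mem hl)),
      ih fun l hl => hg l (Finset.mem_insert_of_mem hl)]

lemma Φ_update_add (c : Fin d → B) (i : Fin d) (x y : B)
    (hx : PiTensorProduct.tprod A (Function.update c i x) ∈ Cs 𝒜 d)
    (hy : PiTensorProduct.tprod A (Function.update c i y) ∈ Cs 𝒜 d) :
    Φ 𝔔 (Function.update c i (x + y)) =
      Φ 𝔔 (Function.update c i x) + Φ 𝔔 (Function.update c i y) := by
  have h : PiTensorProduct.tprod A (Function.update c i (x + y)) ∈ Cs 𝒜 d := by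
    rw [MultilinearMap.map_update_add]
    exact add_mem hx hy
  rw [Φ_of_mem 𝔔 h, Φ_of_mem 𝔔 hx, Φ_of_mem 𝔔 hy, ← map_add]
  congr 1
  exact Subtype.ext ((PiTensorProduct.tprod A).map_update_add c i x y)

lemma Φ_update_smul (c : Fin d → B) (i : Fin d) (a : A) (x : B)
    (hx : PiTensorProduct.tprod A (Function.update c i x) ∈ Cs 𝒜 d) :
    Φ 𝔔 (Function.update c i (a • x)) =
      algebraMap A (↥(Cs 𝒜 d) ⧸ 𝔔) a * Φ 𝔔 (Function.update c i x) := by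
  have h : PiTensorProduct.tprod A (Function.update c i (a • x)) ∈ Cs 𝒜 d := by
    rw [MultilinearMap.map_update_smul]
    exact Subalgebra.smul_mem _ hx a
  rw [Φ_of_mem 𝔔 h, Φ_of_mem 𝔔 hx, ← Ideal.Quotient.mk_algebraMap, ← map_mul]
  congr 1
  apply Subtype.ext
  rw [Subalgebra.coe_mul, Subalgebra.coe_algebraMap, ← Algebra.smul_def]
  exact (PiTensorProduct.tprod A).map_update_smul c i a x

lemma upd1_mem {n : ℕ} {c : Fin d → B} (hc : ∀ l, c l ∈ 𝒜 n) {f : B} (hf : f ∈ 𝒜 n) (i : Fin d) :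
    PiTensorProduct.tprod A (Function.update c i f) ∈ Cs 𝒜 d := by
  refine tprod_mem_Cs (n := n) fun l => ?_
  by_cases h : l = i
  · subst h
    rw [Function.update_self]
    exact hf
  · rw [Function.update_of_ne h]
    exact hc l

/-- an element of the span of pure tensors whose classes vanish lies in the ideal -/
lemma mem_of_span_Φ (P : (Fin d → B) → Prop)
    (hP : ∀ s, P s → PiTensorProduct.tprod A s ∈ Cs 𝒜 d) (hall : ∀ s, P s → Φ 𝔔 s = 0)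
    {x : ⨂[A] _ : Fin d, B}
    (hx : x ∈ Submodule.span A {z | ∃ s, P s ∧ z = PiTensorProduct.tprod A s})
    (hxC : x ∈ Cs 𝒜 d) : (⟨x, hxC⟩ : ↥(Cs 𝒜 d)) ∈ 𝔔 := by
  obtain ⟨N, hN⟩ : ∃ N : Submodule A (⨂[A] _ : Fin d, B),
      N = Submodule.map (Cs 𝒜 d).val.toLinearMap (𝔔.restrictScalars A) := ⟨_, rfl⟩
  have hsub : {z | ∃ s, P s ∧ z = PiTensorProduct.tprod A s} ⊆ (N : Set (⨂[A] _ : Fin d, B)) := by
    rintro _ ⟨s, hs, rfl⟩
    rw [hN]
    refine ⟨⟨_, hP s hs⟩, ?_, rfl⟩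
    exact (Φ_eq_zero_iff 𝔔 (hP s hs)).mp (hall s hs)
  have hxN : x ∈ N := Submodule.span_le.mpr hsub hx
  rw [hN] at hxN
  obtain ⟨y, hy, hyx⟩ := hxN
  have : (⟨x, hxC⟩ : ↥(Cs 𝒜 d)) = y := Subtype.ext hyx.symm
  rw [this]
  exact hy

/-- Reduction of radical membership in the symmetric part to primes of the Segre subalgebra. -/
theorem radical_core (I : Ideal ↥(Ds 𝒜 d)) (k : ℕ) (t : ⨂[A] _ : Fin d, B) (htD : t ∈ Ds 𝒜 d)
    (htk : t ∈ Submodule.span A (CkSet 𝒜 d k))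
    (H : ∀ (𝔔 : Ideal ↥(Cs 𝒜 d)), 𝔔.IsPrime →
      (∀ x ∈ I, algebraMap ↥(Ds 𝒜 d) ↥(Cs 𝒜 d) x ∈ 𝔔) →
      ∀ b : Fin d → B, (∀ i, b i ∈ 𝒜 k) → Φ 𝔔 b ≠ 0 → False) :
    ∃ m : ℕ, 0 < m ∧ (⟨t, htD⟩ : ↥(Ds 𝒜 d)) ^ m ∈ I := by
  by_contra hcon
  have hrad : (⟨t, htD⟩ : ↥(Ds 𝒜 d)) ∉ I.radical := by
    rintro ⟨m, hm⟩
    exact hcon ⟨m + 1, Nat.succ_pos m, by rw [pow_succ]; exact I.mul_mem_right _ hm⟩
  rw [Ideal.radical_eq_sInf, Ideal.mem_sInf] at hrad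
  push Not at hrad
  obtain ⟨𝔮, ⟨hI𝔮, h𝔮⟩, ht𝔮⟩ := hrad
  haveI := h𝔮
  obtain ⟨𝔔, h𝔔, hcomap⟩ := exists_prime_over 𝔮
  have htC : t ∈ Cs 𝒜 d := (Algebra.mem_inf.mp htD).1
  have ht𝔔 : (⟨t, htC⟩ : ↥(Cs 𝒜 d)) ∉ 𝔔 := by
    intro hmem
    apply ht𝔮
    rw [← hcomap, Ideal.mem_comap]
    exact hmem
  apply ht𝔔
  refine mem_of_span_Φ 𝔔 (fun s => ∀ i, s i ∈ 𝒜 k) (fun s hs => tprod_mem_Cs hs) ?_ htk htC
  intro b hb
  by_contra hne
  refine H 𝔔 h𝔔 (fun x hx => ?_) b hb hne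
  have : x ∈ 𝔮 := hI𝔮 hx
  rw [← hcomap, Ideal.mem_comap] at this
  exact this

end Groth.Agent.Lib.Helper6.SymProj
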