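import Mathlib
import Groth.Prelude.Def_SymTen
import Groth.Agent.Lib.Helper6.SymProj.SP1

/-!
# Symmetric products of `Proj`: homogeneous prime avoidance on the Segre subalgebra (helper6)

For a prime `𝔔` of the Segre subalgebra and a pure tensor `b` of multidegree `(k,…,k)` with
nonzero class, the functions `u i j f = Φ (b^j with i-th slot replaced by f)` behave like the
evaluations at `d` points of `Proj B`; homogeneous prime avoidance produces a homogeneous `f` of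
positive degree with `f ⊗ ⋯ ⊗ f ∉ 𝔔`.
-/

set_option autoImplicit false
set_option linter.unusedSectionVars false
set_option linter.unusedVariables false
set_option linter.unusedSimpArgs false
set_option linter.style.haveILetI false
set_option linter.overlappingInstances false
set_option maxHeartbeats 800000
set_option synthInstance.maxHeartbeats 400000

universe u
open scoped TensorProduct
open Groth.Agent.Lib.Helper6.ZC

noncomputable section

namespace Groth.Agent.Lib.Helper6.SymProj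

variable {A B : Type u} [CommRing A] [CommRing B] [Algebra A B]
  {𝒜 : ℕ → Submodule A B} [GradedAlgebra 𝒜] {d : ℕ}

lemma pow_mem_mul {k : ℕ} {x : B} (hx : x ∈ 𝒜 k) (j : ℕ) : x ^ j ∈ 𝒜 (j * k) := by
  have := SetLike.pow_mem_graded j hx
  simpa [smul_eq_mul] using this

lemma mul_mem_mul {k j j' : ℕ} {f f' : B} (hf : f ∈ 𝒜 (j * k)) (hf' : f' ∈ 𝒜 (j' * k)) :
    f * f' ∈ 𝒜 ((j + j') * k) := by
  rw [add_mul]
  exact SetLike.mul_mem_graded hf hf'

lemma pow_mem_mul' {k j : ℕ} {f : B} (hf : f ∈ 𝒜 (j * k)) (n : ℕ) : f ^ n ∈ 𝒜 ((n * j) * k) := by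
  rw [mul_assoc]
  exact pow_mem_mul hf n

lemma prod_mem_mul {k : ℕ} {ι' : Type*} {s : Finset ι'} {J : ι' → ℕ} {F : ι' → B}
    (hF : ∀ l ∈ s, F l ∈ 𝒜 (J l * k)) : ∏ l ∈ s, F l ∈ 𝒜 ((∑ l ∈ s, J l) * k) := by
  rw [Finset.sum_mul]
  exact SetLike.prod_mem_graded 𝒜 _ _ hF

/-- product over all slots of the one-slot modifications of a tuple -/
lemma prod_update (c g : Fin d → B) :
    ∏ i, Function.update c i (g i) = g * c ^ (d - 1) := by
  funext l
  have h1 : (∏ i, Function.update c i (g i)) l = ∏ i, Function.update c i (g i) l :=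
    Finset.prod_apply l _ _
  have h2 : ∏ i, Function.update c i (g i) l =
      g l * ∏ i ∈ Finset.univ.erase l, Function.update c i (g i) l := by
    rw [← Finset.mul_prod_erase Finset.univ _ (Finset.mem_univ l), Function.update_self]
  have h3 : ∏ i ∈ Finset.univ.erase l, Function.update c i (g i) l = c l ^ (d - 1) := by
    rw [Finset.prod_eq_pow_card (b := c l)]
    · rw [Finset.card_erase_of_mem (Finset.mem_univ l), Finset.card_univ, Fintype.card_fin]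
    · intro i hi
      exact Function.update_of_ne (Finset.ne_of_mem_erase hi).symm _ _
  rw [h1, h2, h3]
  rfl

variable (𝔔 : Ideal ↥(Cs 𝒜 d))

lemma Φ_prod_update {n : ℕ} {c g : Fin d → B} (hc : ∀ l, c l ∈ 𝒜 n) (hg : ∀ l, g l ∈ 𝒜 n) :
    ∏ i, Φ 𝔔 (Function.update c i (g i)) = Φ 𝔔 g * Φ 𝔔 c ^ (d - 1) := by
  rw [← Φ_prod 𝔔 Finset.univ (fun i => Function.update c i (g i))
      (fun i _ => upd1_mem hc (hg i) i),
    prod_update c g, Φ_mul 𝔔 (tprod_mem_Cs hg) (tprod_pow_mem (tprod_mem_Cs hc) (d - 1)),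
    Φ_pow 𝔔 (tprod_mem_Cs hc)]

/-- if `f` is nonzero at all `d` points then `f ⊗ ⋯ ⊗ f ∉ 𝔔` -/
lemma Φ_const_ne_zero [𝔔.IsPrime] {n : ℕ} {c : Fin d → B} (hc : ∀ l, c l ∈ 𝒜 n) {f : B}
    (hf : f ∈ 𝒜 n) (h : ∀ i, Φ 𝔔 (Function.update c i f) ≠ 0) :
    Φ 𝔔 (fun _ : Fin d => f) ≠ 0 := by
  have hprod : ∏ i, Φ 𝔔 (Function.update c i ((fun _ : Fin d => f) i)) ≠ 0 :=
    (Finset.prod_ne_zero_iff (M₀ := ↥(Cs 𝒜 d) ⧸ 𝔔)).mpr fun i _ => h i
  rw [Φ_prod_update 𝔔 hc (g := fun _ => f) (fun _ => hf)] at hprod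
  exact left_ne_zero_of_mul hprod

/-- evaluation of `f`, of degree `j * k`, at the `i`-th point -/
def u (b : Fin d → B) (i : Fin d) (j : ℕ) (f : B) : ↥(Cs 𝒜 d) ⧸ 𝔔 :=
  Φ 𝔔 (Function.update (b ^ j) i f)

variable {b : Fin d → B} {k : ℕ} (hb : ∀ l, b l ∈ 𝒜 k)

include hb

lemma bpow_mem (j : ℕ) : ∀ l, (b ^ j) l ∈ 𝒜 (j * k) := fun l => pow_mem_mul (hb l) j

lemma upd_mul (i : Fin d) (j j' : ℕ) (f f' : B) :
    Function.update (b ^ j) i f * Function.update (b ^ j') i f' =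
      Function.update (b ^ (j + j')) i (f * f') := by
  funext l
  by_cases h : l = i
  · subst h
    simp only [Pi.mul_apply, Function.update_self]
  · simp only [Pi.mul_apply, Function.update_of_ne h, Pi.pow_apply, pow_add]

lemma u_mul (i : Fin d) {j j' : ℕ} {f f' : B} (hf : f ∈ 𝒜 (j * k)) (hf' : f' ∈ 𝒜 (j' * k)) :
    u 𝔔 b i (j + j') (f * f') = u 𝔔 b i j f * u 𝔔 b i j' f' := by
  unfold u
  rw [← upd_mul hb i j j' f f', Φ_mul 𝔔 (upd1_mem (bpow_mem hb j) hf i)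
    (upd1_mem (bpow_mem hb j') hf' i)]

lemma u_add (i : Fin d) {j : ℕ} {f f' : B} (hf : f ∈ 𝒜 (j * k)) (hf' : f' ∈ 𝒜 (j * k)) :
    u 𝔔 b i j (f + f') = u 𝔔 b i j f + u 𝔔 b i j f' := by
  unfold u
  exact Φ_update_add 𝔔 (b ^ j) i f f' (upd1_mem (bpow_mem hb j) hf i)
    (upd1_mem (bpow_mem hb j) hf' i)

omit hb in
lemma u_one (i : Fin d) : u 𝔔 b i 0 1 = 1 := by
  unfold u
  have : Function.update (b ^ 0) i (1 : B) = 1 := by
    funext l
    by_cases h : l = i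
    · subst h
      simp only [Function.update_self, Pi.one_apply]
    · simp only [Function.update_of_ne h, Pi.pow_apply, pow_zero, Pi.one_apply]
  rw [this]
  exact Φ_one 𝔔

omit hb in
lemma u_base (i : Fin d) : u 𝔔 b i 1 (b i) = Φ 𝔔 b := by
  unfold u
  rw [pow_one, Function.update_eq_self]

lemma u_pow (i : Fin d) {j : ℕ} {f : B} (hf : f ∈ 𝒜 (j * k)) (n : ℕ) :
    u 𝔔 b i (n * j) (f ^ n) = u 𝔔 b i j f ^ n := by
  induction n with
  | zero =>
    rw [Nat.zero_mul, pow_zero, pow_zero]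
    exact u_one 𝔔 i
  | succ n ih =>
    rw [Nat.succ_mul, pow_succ, pow_succ, u_mul 𝔔 hb i (pow_mem_mul' hf n) hf, ih]

lemma u_prod (i : Fin d) {ι' : Type*} (s : Finset ι') (J : ι' → ℕ) (F : ι' → B)
    (hF : ∀ l ∈ s, F l ∈ 𝒜 (J l * k)) :
    u 𝔔 b i (∑ l ∈ s, J l) (∏ l ∈ s, F l) = ∏ l ∈ s, u 𝔔 b i (J l) (F l) := by
  classical
  induction s using Finset.induction_on with
  | empty =>
    rw [Finset.sum_empty, Finset.prod_empty, Finset.prod_empty]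
    exact u_one 𝔔 i
  | insert a s ha ih =>
    rw [Finset.sum_insert ha, Finset.prod_insert ha, Finset.prod_insert ha,
      u_mul 𝔔 hb i (hF a (Finset.mem_insert_self a s))
        (prod_mem_mul fun l hl => hF l (Finset.mem_insert_of_mem hl)),
      ih fun l hl => hF l (Finset.mem_insert_of_mem hl)]

/-- homogeneous prime avoidance -/
theorem avoid [h𝔔 : 𝔔.IsPrime] (hΦ : Φ 𝔔 b ≠ 0) :
    ∀ (n : ℕ) (s : Finset (Fin d)), s.card = n →
      ∃ (j : ℕ) (f : B), 0 < j ∧ f ∈ 𝒜 (j * k) ∧ ∀ i ∈ s, u 𝔔 b i j f ≠ 0 := by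
  classical
  intro n
  induction n using Nat.strong_induction_on with
  | _ n ih =>
    intro s hs
    by_cases hs0 : s = ∅
    · subst hs0
      exact ⟨1, 0, Nat.one_pos, zero_mem _, fun i hi => absurd hi (Finset.notMem_empty i)⟩
    obtain ⟨i₀, hi₀⟩ := Finset.nonempty_iff_ne_empty.mpr hs0
    have hIH : ∀ i ∈ s, ∃ (j : ℕ) (f : B), 0 < j ∧ f ∈ 𝒜 (j * k) ∧
        ∀ l ∈ s.erase i, u 𝔔 b l j f ≠ 0 := by
      intro i hi
      exact ih (s.erase i).card (by rw [← hs]; exact Finset.card_erase_lt_of_mem hi)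
        (s.erase i) rfl
    choose! J F hJ hF hu using hIH
    by_cases hA : ∃ i ∈ s, u 𝔔 b i (J i) (F i) ≠ 0
    · obtain ⟨i, hi, hne⟩ := hA
      refine ⟨J i, F i, hJ i hi, hF i hi, fun l hl => ?_⟩
      by_cases hli : l = i
      · rw [hli]
        exact hne
      · exact hu i hi l (Finset.mem_erase.mpr ⟨hli, hl⟩)
    · push Not at hA
      obtain ⟨q, hq⟩ : ∃ q : ℕ, q = 1 + ∑ l ∈ s.erase i₀, J l := ⟨_, rfl⟩
      obtain ⟨Fq, hFq⟩ : ∃ Fq : B, Fq = b i₀ * ∏ l ∈ s.erase i₀, F l := ⟨_, rfl⟩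
      have hp0 : 0 < J i₀ := hJ i₀ hi₀
      have hq0 : 0 < q := by omega
      have hG : F i₀ ∈ 𝒜 (J i₀ * k) := hF i₀ hi₀
      have hbi : b i₀ ∈ 𝒜 (1 * k) := by
        rw [one_mul]
        exact hb i₀
      have hFl : ∀ l ∈ s.erase i₀, F l ∈ 𝒜 (J l * k) :=
        fun l hl => hF l (Finset.mem_of_mem_erase hl)
      have hprod : ∏ l ∈ s.erase i₀, F l ∈ 𝒜 ((∑ l ∈ s.erase i₀, J l) * k) := prod_mem_mul hFl
      have hFqm : Fq ∈ 𝒜 (q * k) := by
        rw [hFq, hq]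
        exact mul_mem_mul hbi hprod
      have huFq : ∀ i, u 𝔔 b i q Fq =
          u 𝔔 b i 1 (b i₀) * ∏ l ∈ s.erase i₀, u 𝔔 b i (J l) (F l) := by
        intro i
        rw [hFq, hq, u_mul 𝔔 hb i hbi hprod, u_prod 𝔔 hb i (s.erase i₀) J F hFl]
      have hFq_i₀ : u 𝔔 b i₀ q Fq ≠ 0 := by
        rw [huFq]
        refine mul_ne_zero ?_ ((Finset.prod_ne_zero_iff (M₀ := ↥(Cs 𝒜 d) ⧸ 𝔔)).mpr fun l hl => ?_)
        · rw [u_base]
          exact hΦ
        · exact hu l (Finset.mem_of_mem_erase hl) i₀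
            (Finset.mem_erase.mpr ⟨(Finset.ne_of_mem_erase hl).symm, hi₀⟩)
      have hFq_i : ∀ i ∈ s.erase i₀, u 𝔔 b i q Fq = 0 := by
        intro i hi
        rw [huFq, Finset.prod_eq_zero (f := fun l => u 𝔔 b i (J l) (F l)) hi
          (hA i (Finset.mem_of_mem_erase hi)), mul_zero]
      have hG_i₀ : u 𝔔 b i₀ (J i₀) (F i₀) = 0 := hA i₀ hi₀
      have hG_i : ∀ i ∈ s.erase i₀, u 𝔔 b i (J i₀) (F i₀) ≠ 0 := fun i hi => hu i₀ hi₀ i hi
      have hm1 : F i₀ ^ q ∈ 𝒜 (q * J i₀ * k) := pow_mem_mul' hG q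
      have hm2 : Fq ^ J i₀ ∈ 𝒜 (q * J i₀ * k) := by
        rw [mul_comm q (J i₀)]
        exact pow_mem_mul' hFqm (J i₀)
      refine ⟨q * J i₀, F i₀ ^ q + Fq ^ J i₀, Nat.mul_pos hq0 hp0, add_mem hm1 hm2, ?_⟩
      intro i hi
      have e1 : u 𝔔 b i (q * J i₀) (F i₀ ^ q + Fq ^ J i₀) =
          u 𝔔 b i (J i₀) (F i₀) ^ q + u 𝔔 b i q Fq ^ J i₀ := by
        rw [u_add 𝔔 hb i hm1 hm2, u_pow 𝔔 hb i hG q]
        congr 1
        rw [mul_comm q (J i₀)]
        exact u_pow 𝔔 hb i hFqm (J i₀)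
      rw [e1]
      by_cases hii : i = i₀
      · rw [hii, hG_i₀, zero_pow hq0.ne', zero_add]
        exact pow_ne_zero _ hFq_i₀
      · have his' : i ∈ s.erase i₀ := Finset.mem_erase.mpr ⟨hii, hi⟩
        rw [hFq_i i his', zero_pow hp0.ne', add_zero]
        exact pow_ne_zero _ (hG_i i his')

omit hb in
/-- every element of positive degree of the symmetric part of the Segre algebra has a power in the
ideal generated by the tensors `f ⊗ ⋯ ⊗ f`, `f` homogeneous of positive degree -/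
theorem main1 (𝒜 : ℕ → Submodule A B) [GradedAlgebra 𝒜] (d : ℕ) {k : ℕ} (hk : 0 < k)
    (t : ⨂[A] _ : Fin d, B) (htD : t ∈ Ds 𝒜 d) (htk : t ∈ Submodule.span A (CkSet 𝒜 d k)) :
    ∃ m : ℕ, 0 < m ∧ (⟨t, htD⟩ : ↥(Ds 𝒜 d)) ^ m ∈
      Ideal.span {x : ↥(Ds 𝒜 d) | ∃ (n : ℕ) (f : B), 0 < n ∧ f ∈ 𝒜 n ∧
        (x : ⨂[A] _ : Fin d, B) = PiTensorProduct.tprod A (fun _ : Fin d => f)} := by
  refine radical_core _ k t htD htk ?_
  intro 𝔔 h𝔔 hI b hb hΦ
  haveI := h𝔔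
  obtain ⟨j, f, hj, hf, hu⟩ := avoid 𝔔 hb hΦ _ Finset.univ rfl
  have hne := Φ_const_ne_zero 𝔔 (bpow_mem hb j) hf (fun i => hu i (Finset.mem_univ i))
  apply hne
  have hfC : PiTensorProduct.tprod A (fun _ : Fin d => f) ∈ Cs 𝒜 d :=
    tprod_mem_Cs (n := j * k) fun _ => hf
  have hfD : PiTensorProduct.tprod A (fun _ : Fin d => f) ∈ Ds 𝒜 d :=
    Algebra.mem_inf.mpr ⟨hfC, (SymTen.tpow A B d f).2⟩
  have hmem := hI ⟨_, hfD⟩ (Ideal.subset_span ⟨j * k, f, Nat.mul_pos hj hk, hf, rfl⟩)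
  rw [Φ_eq_zero_iff 𝔔 hfC]
  exact hmem

end Groth.Agent.Lib.Helper6.SymProj
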