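import Mathlib
import Groth.Prelude.Def_SymTen
import Groth.Agent.Lib.Helper6.SymProj.SP2

/-!
# Symmetric products of `Proj`: reduction to degree one (helper6)

If `B` is generated in degree one then a prime of the Segre subalgebra not containing the
multidegree `(k,…,k)` part, `k > 0`, does not contain the multidegree `(1,…,1)` part.
-/

set_option autoImplicit false
set_option linter.unusedSectionVars false
set_option linter.unusedVariables false
set_option linter.unusedSimpArgs false
set_option linter.style.haveILetI false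
set_option linter.overlappingInstances false
set_option maxHeartbeats 800000
set_option synthInstance.maxHeartbeats 400000

universe u
open scoped TensorProduct
open Groth.Agent.Lib.Helper6.ZC

noncomputable section

namespace Groth.Agent.Lib.Helper6.SymProj

variable {A B : Type u} [CommRing A] [CommRing B] [Algebra A B]
  {𝒜 : ℕ → Submodule A B} [GradedAlgebra 𝒜] {d : ℕ}

/-- products of an element of degree one and an element of degree `n` -/
def S1 (𝒜 : ℕ → Submodule A B) (n : ℕ) : Set B := {x | ∃ h r, h ∈ 𝒜 1 ∧ r ∈ 𝒜 n ∧ x = h * r}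

lemma S1_subset (n : ℕ) {x : B} (hx : x ∈ S1 𝒜 n) : x ∈ 𝒜 (n + 1) := by
  obtain ⟨h, r, hh, hr, rfl⟩ := hx
  rw [add_comm]
  exact SetLike.mul_mem_graded hh hr

lemma graded_succ_le (hgen : Algebra.adjoin A (𝒜 1 : Set B) = ⊤) (n : ℕ) :
    𝒜 (n + 1) ≤ Submodule.span A (S1 𝒜 n) := by
  intro x hx
  have hx' : x ∈ Subalgebra.toSubmodule (Algebra.adjoin A (𝒜 1 : Set B)) := by
    rw [hgen]
    exact (Algebra.mem_top (R := A) (A := B) : x ∈ (⊤ : Subalgebra A B))
  rw [Algebra.adjoin_eq_span] at hx'
  have key : ∀ m ∈ Submonoid.closure (𝒜 1 : Set B),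
      GradedAlgebra.proj 𝒜 (n + 1) m ∈ Submodule.span A (S1 𝒜 n) := by
    intro m hm
    induction hm using Submonoid.closure_induction_left with
    | one =>
      rw [GradedAlgebra.proj_apply,
        DirectSum.decompose_of_mem_ne 𝒜 (SetLike.GradedOne.one_mem) (by omega : 0 ≠ n + 1)]
      exact zero_mem _
    | mul_left h hh y hy _ =>
      rw [GradedAlgebra.proj_apply, add_comm n 1,
        DirectSum.coe_decompose_mul_add_of_left_mem 𝒜 hh]
      exact Submodule.subset_span ⟨h, _, hh, SetLike.coe_mem _, rfl⟩
  have hproj : GradedAlgebra.proj 𝒜 (n + 1) x ∈ Submodule.span A (S1 𝒜 n) := by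
    refine Submodule.span_induction
      (p := fun y _ => GradedAlgebra.proj 𝒜 (n + 1) y ∈ Submodule.span A (S1 𝒜 n))
      ?_ ?_ ?_ ?_ hx'
    · intro y hy
      exact key y hy
    · rw [map_zero]
      exact zero_mem _
    · intro y z _ _ hy hz
      rw [map_add]
      exact add_mem hy hz
    · intro a y _ hy
      rw [map_smul]
      exact Submodule.smul_mem _ a hy
  rwa [GradedAlgebra.proj_apply, DirectSum.decompose_of_mem_same 𝒜 hx] at hproj

/-- a pure tensor whose factors lie in the span of `S` lies in the span of the pure tensors with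
factors in `S` -/
lemma tprod_mem_span_tprod (S : Set B) (g : Fin d → B) (hg : ∀ i, g i ∈ Submodule.span A S) :
    PiTensorProduct.tprod A g ∈
      Submodule.span A {z | ∃ s : Fin d → B, (∀ i, s i ∈ S) ∧ z = PiTensorProduct.tprod A s} := by
  classical
  have key : ∀ (σ : Finset (Fin d)) (g : Fin d → B), (∀ i ∈ σ, g i ∈ Submodule.span A S) →
      (∀ i, i ∉ σ → g i ∈ S) → PiTensorProduct.tprod A g ∈
        Submodule.span A {z | ∃ s : Fin d → B, (∀ i, s i ∈ S) ∧
          z = PiTensorProduct.tprod A s} := by
    intro σ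
    induction σ using Finset.induction_on with
    | empty =>
      intro g _ hg2
      exact Submodule.subset_span ⟨g, fun i => hg2 i (Finset.notMem_empty i), rfl⟩
    | insert a σ ha ih =>
      intro g hg1 hg2
      have hga : g a ∈ Submodule.span A S := hg1 a (Finset.mem_insert_self a σ)
      have hstep : ∀ x ∈ Submodule.span A S,
          PiTensorProduct.tprod A (Function.update g a x) ∈
            Submodule.span A {z | ∃ s : Fin d → B, (∀ i, s i ∈ S) ∧
              z = PiTensorProduct.tprod A s} := by
        intro x hx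
        induction hx using Submodule.span_induction with
        | mem x hx =>
          apply ih
          · intro i hi
            have hia : i ≠ a := fun h => ha (h ▸ hi)
            rw [Function.update_of_ne hia]
            exact hg1 i (Finset.mem_insert_of_mem hi)
          · intro i hi
            by_cases hia : i = a
            · rw [hia, Function.update_self]
              exact hx
            · rw [Function.update_of_ne hia]
              exact hg2 i (fun h => (Finset.mem_insert.mp h).elim hia hi)
        | zero =>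
          rw [MultilinearMap.map_update_zero]
          exact zero_mem _
        | add x y _ _ hx hy =>
          rw [MultilinearMap.map_update_add]
          exact add_mem hx hy
        | smul c x _ hx =>
          rw [MultilinearMap.map_update_smul]
          exact Submodule.smul_mem _ c hx
      have := hstep (g a) hga
      rwa [Function.update_eq_self] at this
  exact key Finset.univ g (fun i _ => hg i) (fun i hi => absurd (Finset.mem_univ i) hi)

variable (𝔔 : Ideal ↥(Cs 𝒜 d))

/-- reduction to degree one -/
theorem exists_deg_one (hgen : Algebra.adjoin A (𝒜 1 : Set B) = ⊤) {k : ℕ} (hk : 0 < k)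
    {b : Fin d → B} (hb : ∀ i, b i ∈ 𝒜 k) (hΦ : Φ 𝔔 b ≠ 0) :
    ∃ c : Fin d → B, (∀ i, c i ∈ 𝒜 1) ∧ Φ 𝔔 c ≠ 0 := by
  obtain ⟨n, rfl⟩ : ∃ n, k = n + 1 := ⟨k - 1, by omega⟩
  have h1 := tprod_mem_span_tprod (S1 𝒜 n) b (fun i => graded_succ_le hgen n (hb i))
  by_contra hcon
  push Not at hcon
  apply hΦ
  have hbC : PiTensorProduct.tprod A b ∈ Cs 𝒜 d := tprod_mem_Cs hb
  rw [Φ_eq_zero_iff 𝔔 hbC]
  refine mem_of_span_Φ 𝔔 (fun s => ∀ i, s i ∈ S1 𝒜 n) ?_ ?_ h1 hbC
  · intro s hs
    exact tprod_mem_Cs (n := n + 1) fun i => S1_subset n (hs i)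
  · intro s hs
    have hs' : ∀ i, ∃ h r, h ∈ 𝒜 1 ∧ r ∈ 𝒜 n ∧ s i = h * r := hs
    choose h r hh hr hsr using hs'
    have : s = h * r := funext hsr
    rw [this, Φ_mul 𝔔 (tprod_mem_Cs hh) (tprod_mem_Cs hr), hcon h hh, zero_mul]

end Groth.Agent.Lib.Helper6.SymProj
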