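import Mathlib
import Groth.Prelude.Def_SymTen
import Groth.Agent.Lib.Helper6.SymProj.SP3
import Groth.Agent.Lib.Helper6.GamSpan.GS1

/-!
# Symmetric products of `Proj`: covering by `D_+(f ⊗ ⋯ ⊗ f)` with `f` of degree one (helper6)

When all residue fields of `A` have at least `d` elements, `d` nonzero linear forms on `B_1` with
values in a domain over `A` have a common non-zero: avoidance with `d` points of the projective
line.
-/

set_option autoImplicit false
set_option linter.unusedSectionVars false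
set_option linter.unusedVariables false
set_option linter.unusedSimpArgs false
set_option linter.style.haveILetI false
set_option linter.overlappingInstances false
set_option maxHeartbeats 800000
set_option synthInstance.maxHeartbeats 400000

universe u
open scoped TensorProduct
open Groth.Agent.Lib.Helper6.ZC

noncomputable section

namespace Groth.Agent.Lib.Helper6.SymProj

variable {A B : Type u} [CommRing A] [CommRing B] [Algebra A B]
  {𝒜 : ℕ → Submodule A B} [GradedAlgebra 𝒜] {d : ℕ}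

variable (𝔔 : Ideal ↥(Cs 𝒜 d))

/-- avoidance for linear forms -/
theorem avoid_lin [h𝔔 : 𝔔.IsPrime]
    (hres : ∀ p : PrimeSpectrum A, (d : Cardinal) ≤ Cardinal.mk p.asIdeal.ResidueField)
    {c : Fin d → B} (hc : ∀ l, c l ∈ 𝒜 1) (hΦ : Φ 𝔔 c ≠ 0) :
    ∀ s : Finset (Fin d), ∃ f ∈ 𝒜 1, ∀ i ∈ s, Φ 𝔔 (Function.update c i f) ≠ 0 := by
  classical
  obtain ⟨𝔭, h𝔭⟩ : ∃ 𝔭 : Ideal A, 𝔭 = RingHom.ker (algebraMap A (↥(Cs 𝒜 d) ⧸ 𝔔)) := ⟨_, rfl⟩
  haveI h𝔭p : 𝔭.IsPrime := by
    rw [h𝔭]
    exact RingHom.ker_isPrime _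
  obtain ⟨a, w, hw, haw⟩ := GamSpan.exists_points 𝔭 d (hres ⟨𝔭, h𝔭p⟩)
  have hker : ∀ z : A, z ∉ 𝔭 → algebraMap A (↥(Cs 𝒜 d) ⧸ 𝔔) z ≠ 0 := by
    intro z hz h0
    apply hz
    rw [h𝔭]
    exact RingHom.mem_ker.mpr h0
  intro s
  induction s using Finset.induction_on with
  | empty => exact ⟨0, zero_mem _, fun i hi => absurd hi (Finset.notMem_empty i)⟩
  | insert ι s hι ih =>
    obtain ⟨g, hg, hgs⟩ := ih
    by_cases hgι : Φ 𝔔 (Function.update c ι g) ≠ 0
    · refine ⟨g, hg, fun i hi => ?_⟩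
      rcases Finset.mem_insert.mp hi with h | h
      · rw [h]
        exact hgι
      · exact hgs i h
    · push Not at hgι
      have hval : ∀ (m : Fin d) (i : Fin d),
          Φ 𝔔 (Function.update c i (a m • g + w m • c ι)) =
            algebraMap A (↥(Cs 𝒜 d) ⧸ 𝔔) (a m) * Φ 𝔔 (Function.update c i g) +
            algebraMap A (↥(Cs 𝒜 d) ⧸ 𝔔) (w m) * Φ 𝔔 (Function.update c i (c ι)) := by
        intro m i
        rw [Φ_update_add 𝔔 c i _ _ (upd1_mem hc (Submodule.smul_mem _ _ hg) i)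
            (upd1_mem hc (Submodule.smul_mem _ _ (hc ι)) i),
          Φ_update_smul 𝔔 c i _ _ (upd1_mem hc hg i),
          Φ_update_smul 𝔔 c i _ _ (upd1_mem hc (hc ι) i)]
      by_contra hcon
      push Not at hcon
      have hbad : ∀ m : Fin d, ∃ i ∈ s,
          Φ 𝔔 (Function.update c i (a m • g + w m • c ι)) = 0 := by
        intro m
        obtain ⟨i, hi, h0⟩ := hcon (a m • g + w m • c ι)
          (add_mem (Submodule.smul_mem _ _ hg) (Submodule.smul_mem _ _ (hc ι)))
        rcases Finset.mem_insert.mp hi with h | hi'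
        · exfalso
          rw [h, hval, hgι, mul_zero, zero_add, Function.update_eq_self] at h0
          exact (mul_ne_zero (hker _ (hw m)) hΦ) h0
        · exact ⟨i, hi', h0⟩
      choose φ hφs hφ0 using hbad
      have hinj : Function.Injective φ := by
        intro m m' hmm
        by_contra hne
        have e1 := hφ0 m
        have e2 := hφ0 m'
        rw [← hmm] at e2
        rw [hval] at e1 e2
        have hX := hgs (φ m) (hφs m)
        have hdet : algebraMap A (↥(Cs 𝒜 d) ⧸ 𝔔) (a m' * w m - a m * w m') ≠ 0 :=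
          hker _ (haw m m' hne)
        apply hdet
        have h3 : algebraMap A (↥(Cs 𝒜 d) ⧸ 𝔔) (a m' * w m - a m * w m') *
            Φ 𝔔 (Function.update c (φ m) g) = 0 := by
          rw [map_sub, map_mul, map_mul]
          linear_combination (algebraMap A (↥(Cs 𝒜 d) ⧸ 𝔔) (w m)) * e2 -
            (algebraMap A (↥(Cs 𝒜 d) ⧸ 𝔔) (w m')) * e1
        exact (mul_eq_zero.mp h3).resolve_right hX
      have hcard : Fintype.card (Fin d) ≤ s.card := by
        have := Fintype.card_le_of_injective (fun m => (⟨φ m, hφs m⟩ : ↥s))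
          (fun m m' h => hinj (Subtype.ext_iff.mp h))
        rwa [Fintype.card_coe] at this
      have hlt : s.card < d := by
        have h1 : (insert ι s).card ≤ Fintype.card (Fin d) := Finset.card_le_univ _
        rw [Finset.card_insert_of_notMem hι, Fintype.card_fin] at h1
        omega
      rw [Fintype.card_fin] at hcard
      omega

/-- if all residue fields of `A` have at least `d` elements, every element of positive degree of
the symmetric part of the Segre algebra has a power in the ideal generated by the tensors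
`f ⊗ ⋯ ⊗ f`, `f` of degree one -/
theorem main2 (𝒜 : ℕ → Submodule A B) [GradedAlgebra 𝒜]
    (hgen : Algebra.adjoin A (𝒜 1 : Set B) = ⊤) (d : ℕ)
    (hres : ∀ p : PrimeSpectrum A, (d : Cardinal) ≤ Cardinal.mk p.asIdeal.ResidueField)
    {k : ℕ} (hk : 0 < k)
    (t : ⨂[A] _ : Fin d, B) (htD : t ∈ Ds 𝒜 d) (htk : t ∈ Submodule.span A (CkSet 𝒜 d k)) :
    ∃ m : ℕ, 0 < m ∧ (⟨t, htD⟩ : ↥(Ds 𝒜 d)) ^ m ∈
      Ideal.span {x : ↥(Ds 𝒜 d) | ∃ f : B, f ∈ 𝒜 1 ∧
        (x : ⨂[A] _ : Fin d, B) = PiTensorProduct.tprod A (fun _ : Fin d => f)} := by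
  refine radical_core _ k t htD htk ?_
  intro 𝔔 h𝔔 hI b hb hΦ
  haveI := h𝔔
  obtain ⟨c, hc, hΦc⟩ := exists_deg_one 𝔔 hgen hk hb hΦ
  obtain ⟨f, hf, hfs⟩ := avoid_lin 𝔔 hres hc hΦc Finset.univ
  have hne := Φ_const_ne_zero 𝔔 hc hf (fun i => hfs i (Finset.mem_univ i))
  apply hne
  have hfC : PiTensorProduct.tprod A (fun _ : Fin d => f) ∈ Cs 𝒜 d :=
    tprod_mem_Cs (n := 1) fun _ => hf
  have hfD : PiTensorProduct.tprod A (fun _ : Fin d => f) ∈ Ds 𝒜 d :=
    Algebra.mem_inf.mpr ⟨hfC, (SymTen.tpow A B d f).2⟩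
  have hmem := hI ⟨_, hfD⟩ (Ideal.subset_span ⟨f, hf, rfl⟩)
  rw [Φ_eq_zero_iff 𝔔 hfC]
  exact hmem

end Groth.Agent.Lib.Helper6.SymProj
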