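import Mathlib
import Groth.Prelude.Def_SymTen
import Groth.Agent.Lib.Helper6.SymProj.SP3
import Groth.Agent.Lib.Helper6.ZC.Trace

/-!
# Symmetric products of `Proj`: the symmetric part of the Segre algebra is covered in degree one (helper6)

For a pure tensor `c` of multidegree `(1,…,1)` with nonzero class modulo a prime `𝔔`, the product
of the `d` nonzero linear forms `∑ₛ Xₛ · Φ(c with i-th slot replaced by cₛ)` is a nonzero
polynomial; its coefficients are, up to the factor `Φ(c)^(d-1)`, the classes of the symmetrised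
tensors `∑_{typ p = μ} c_{p 1} ⊗ ⋯ ⊗ c_{p d}`, which are symmetric of degree one.
-/

set_option autoImplicit false
set_option linter.unusedSectionVars false
set_option linter.unusedVariables false
set_option linter.unusedSimpArgs false
set_option linter.style.haveILetI false
set_option linter.overlappingInstances false
set_option maxHeartbeats 800000
set_option synthInstance.maxHeartbeats 400000

universe u
open scoped TensorProduct
open Groth.Agent.Lib.Helper6.ZC

noncomputable section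

namespace Groth.Agent.Lib.Helper6.SymProj

variable {A B : Type u} [CommRing A] [CommRing B] [Algebra A B]

/-- precomposition with a permutation, as a bijection of the set of index maps -/
def compPerm {d : ℕ} (τ : Equiv.Perm (Fin d)) : (Fin d → Fin d) ≃ (Fin d → Fin d) where
  toFun p := p ∘ τ.symm
  invFun p := p ∘ τ
  left_inv p := by funext i; simp
  right_inv p := by funext i; simp

/-- every element of positive degree of the symmetric part of the Segre algebra has a power in the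
ideal generated by the degree one part -/
theorem main3 (𝒜 : ℕ → Submodule A B) [GradedAlgebra 𝒜]
    (hgen : Algebra.adjoin A (𝒜 1 : Set B) = ⊤) (d : ℕ) {k : ℕ} (hk : 0 < k)
    (t : ⨂[A] _ : Fin d, B) (htD : t ∈ Ds 𝒜 d) (htk : t ∈ Submodule.span A (CkSet 𝒜 d k)) :
    ∃ m : ℕ, 0 < m ∧ (⟨t, htD⟩ : ↥(Ds 𝒜 d)) ^ m ∈
      Ideal.span {x : ↥(Ds 𝒜 d) |
        (x : ⨂[A] _ : Fin d, B) ∈ Submodule.span A (CkSet 𝒜 d 1)} := by
  classical
  refine radical_core _ k t htD htk ?_
  intro 𝔔 h𝔔 hI b hb hΦ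
  haveI := h𝔔
  obtain ⟨c, hc, hΦc⟩ := exists_deg_one 𝔔 hgen hk hb hΦ
  have hpC : ∀ p : Fin d → Fin d, PiTensorProduct.tprod A (fun i => c (p i)) ∈ Cs 𝒜 d :=
    fun p => tprod_mem_Cs (n := 1) fun i => hc (p i)
  have hsym : ∀ μ : Fin d →₀ ℕ,
      ∑ p : Fin d → Fin d, (if typ p = μ then Φ 𝔔 (fun i => c (p i)) else 0) = 0 := by
    intro μ
    obtain ⟨z, hz⟩ : ∃ z : ⨂[A] _ : Fin d, B, z = ∑ p : Fin d → Fin d,
        (if typ p = μ then PiTensorProduct.tprod A (fun i => c (p i)) else 0) := ⟨_, rfl⟩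
    have hz1 : z ∈ Submodule.span A (CkSet 𝒜 d 1) := by
      rw [hz]
      refine Submodule.sum_mem _ fun p _ => ?_
      split_ifs
      · exact Submodule.subset_span ⟨_, fun i => hc (p i), rfl⟩
      · exact zero_mem _
    have hzC : z ∈ Cs 𝒜 d := span_CkSet_le 1 hz1
    have hzTS : z ∈ SymTen.TS A B d := by
      rw [SymTen.mem_TS_iff]
      intro τ
      rw [← SymTen.perm_apply, hz, map_sum]
      have hterm : ∀ p : Fin d → Fin d,
          SymTen.perm A B d τ
            (if typ p = μ then PiTensorProduct.tprod A (fun i => c (p i)) else 0) =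
          if typ (compPerm τ p) = μ then
            PiTensorProduct.tprod A (fun i => c (compPerm τ p i)) else 0 := by
        intro p
        have : typ (compPerm τ p) = typ p := typ_comp_perm p τ.symm
        rw [this]
        split_ifs
        · rw [SymTen.perm_tprod]
          rfl
        · exact map_zero _
      simp only [hterm]
      exact Fintype.sum_equiv (compPerm τ) _ _ (fun p => rfl)
    have hzD : z ∈ Ds 𝒜 d := Algebra.mem_inf.mpr ⟨hzC, hzTS⟩
    have hz𝔔 : (⟨z, hzC⟩ : ↥(Cs 𝒜 d)) ∈ 𝔔 := hI ⟨z, hzD⟩ (Ideal.subset_span hz1)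
    have e : Ideal.Quotient.mk 𝔔 ⟨z, hzC⟩ =
        ∑ p : Fin d → Fin d, (if typ p = μ then Φ 𝔔 (fun i => c (p i)) else 0) := by
      have hsum : (⟨z, hzC⟩ : ↥(Cs 𝒜 d)) = ∑ p : Fin d → Fin d,
          (if typ p = μ then (⟨_, hpC p⟩ : ↥(Cs 𝒜 d)) else 0) := by
        apply Subtype.ext
        change z = _
        rw [AddSubmonoidClass.coe_finsetSum]
        refine hz.trans (Finset.sum_congr rfl fun p _ => ?_)
        split_ifs <;> rfl
      rw [hsum, map_sum]
      refine Finset.sum_congr rfl fun p _ => ?_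
      split_ifs
      · rw [Φ_of_mem 𝔔 (hpC p)]
      · exact map_zero _
    rw [← e]
    exact Ideal.Quotient.eq_zero_iff_mem.mpr hz𝔔
  obtain ⟨x, hx⟩ : ∃ x : Fin d → Fin d → ↥(Cs 𝒜 d) ⧸ 𝔔,
      ∀ i s, x i s = Φ 𝔔 (Function.update c i (c s)) := ⟨_, fun _ _ => rfl⟩
  have hxprod : ∀ p : Fin d → Fin d,
      ∏ i, x i (p i) = Φ 𝔔 (fun i => c (p i)) * Φ 𝔔 c ^ (d - 1) := by
    intro p
    simp only [hx]
    exact Φ_prod_update 𝔔 hc (g := fun i => c (p i)) (fun l => hc (p l))
  have hP0 : (∏ i, ∑ s, MvPolynomial.C (x i s) * MvPolynomial.X s :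
      MvPolynomial (Fin d) (↥(Cs 𝒜 d) ⧸ 𝔔)) ≠ 0 := by
    refine (Finset.prod_ne_zero_iff
      (M₀ := MvPolynomial (Fin d) (↥(Cs 𝒜 d) ⧸ 𝔔))).mpr fun i _ => ?_
    intro h0
    have h1 : MvPolynomial.eval (Pi.single i (1 : ↥(Cs 𝒜 d) ⧸ 𝔔))
        (∑ s, MvPolynomial.C (x i s) * MvPolynomial.X s) = x i i := by
      simp [Pi.single_apply]
    have h2 : x i i = Φ 𝔔 c := by rw [hx, Function.update_eq_self]
    rw [h0, map_zero, h2] at h1
    exact hΦc h1.symm
  apply hP0
  ext μ
  rw [Finset.prod_univ_sum, Fintype.piFinset_univ, MvPolynomial.coeff_sum, MvPolynomial.coeff_zero]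
  have hcoef : ∀ p : Fin d → Fin d,
      MvPolynomial.coeff μ (∏ i, (MvPolynomial.C (x i (p i)) * MvPolynomial.X (p i))) =
        (if typ p = μ then Φ 𝔔 (fun i => c (p i)) else 0) * Φ 𝔔 c ^ (d - 1) := by
    intro p
    have hX : ∏ i, (MvPolynomial.X (p i) : MvPolynomial (Fin d) (↥(Cs 𝒜 d) ⧸ 𝔔)) =
        MvPolynomial.monomial (typ p) 1 := prod_X_eq_monomial (A := ↥(Cs 𝒜 d) ⧸ 𝔔) p
    rw [Finset.prod_mul_distrib, ← map_prod, hX, MvPolynomial.coeff_C_mul,
      MvPolynomial.coeff_monomial, hxprod]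
    split_ifs <;> ring
  simp only [hcoef]
  rw [← Finset.sum_mul, hsym μ, zero_mul]

end Groth.Agent.Lib.Helper6.SymProj
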